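import Cfsg.Agent.H689.Ccp.GForm

/-!
# `G₂(3^a)` (helper689, for S4114, task 2381): a minimal configuration of graph type fixes no Borel subgroup

Idea of helper274: `CCP` holds on `B / U = T`, and `α` exchanges two of the three involutions of `T`.

* `false_of_form`, `false_of_perm`, `false_of_fix` (the standard Borel subgroup), `false_of_conj` (any Borel subgroup).
-/

set_option autoImplicit false
set_option linter.unusedSectionVars false
set_option maxRecDepth 100000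

namespace Cfsg.Agent.H689.Ccp

open scoped Pointwise
open Subgroup Cfsg Cfsg.Lie Cfsg.Agent.ChevalleyStructure Cfsg.Agent.ChevalleyStructure.Elts
  Cfsg.Agent.H70.ChevFix Cfsg.Agent.H70.ChevField Cfsg.Agent.H70.OutCount Cfsg.Agent.Schreier.ChevLocal
  Cfsg.Agent.H70.PermFix Cfsg.Agent.Schreier.ChevSch Cfsg.Agent.H70.AutFix Cfsg.Agent.ChevalleyStructure.BNChev
  Cfsg.Agent.S1042 Cfsg.Agent.ChevalleyStructure.NConj Cfsg.Agent.H70.ChevTab
open Cfsg.Agent.H520

universe u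

variable {F : Type u} [Field F] [Finite F] [CharP F 3]

theorem finG : Finite (GG2 F) := by
  have hfin : Finite (GL chevG2.Idx F) := inferInstance
  exact inferInstance

theorem two_ne : (2 : F) ≠ 0 := by
  intro h7
  have h8 : (3 : F) = 0 := by
    have := CharP.cast_eq_zero F 3
    exact_mod_cast this
  have : (1 : F) = 0 := by linear_combination h8 - h7
  exact one_ne_zero this

/-- `conj b * psi σ` on the torus modulo `U` -/
theorem map_H {b : GG2 F} (hb : b ∈ BB chevG2 F) (σ : F ≃+* F) {p q : F} (hp : p ≠ 0) (hq : q ≠ 0) :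
    ∃ v ∈ UU chevG2 F, (MulAut.conj b * psi σ) (H p q) = v * H (σ q) (σ p ^ 3) := by
  have hσ : ∀ {z : F}, z ≠ 0 → σ z ≠ 0 := fun {z} hz => by rwa [Ne, EmbeddingLike.map_eq_zero_iff]
  obtain ⟨u, hu, x, y, hx, hy, rfl⟩ := exists_B hb
  have hz' := H_mem (hσ hq) (pow_ne_zero 3 (hσ hp))
  refine ⟨u * (H (σ q) (σ p ^ 3) * u⁻¹ * (H (σ q) (σ p ^ 3))⁻¹),
    mul_mem hu (conj_mem_UU F hD (HH_le hz') (inv_mem hu)), ?_⟩
  rw [MulAut.mul_apply, psi_H σ hp hq, MulAut.conj_apply]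
  have e := HH_comm (H_mem hx hy) hz'
  calc u * H x y * H (σ q) (σ p ^ 3) * (u * H x y)⁻¹ = u * (H x y * H (σ q) (σ p ^ 3)) * (H x y)⁻¹ * u⁻¹ := by group
    _ = _ := by rw [e]; group

theorem form_BB {b : GG2 F} (hb : b ∈ BB chevG2 F) (σ : F ≃+* F) {g : GG2 F} (hg : g ∈ BB chevG2 F) :
    (MulAut.conj b * psi σ) g ∈ BB chevG2 F :=
  mul_mem (mul_mem hb (psi_BB σ hg)) (inv_mem hb)

theorem form_UU {b : GG2 F} (hb : b ∈ BB chevG2 F) (σ : F ≃+* F) {g : GG2 F} (hg : g ∈ UU chevG2 F) :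
    (MulAut.conj b * psi σ) g ∈ UU chevG2 F :=
  conj_mem_UU F hD hb (psi_UU σ hg)

theorem not_ccp {b : GG2 F} (hb : b ∈ BB chevG2 F) (σ : F ≃+* F) : ¬ CCP (MulAut.conj b * psi σ) := by
  have := finG (F := F)
  intro h
  set α : MulAut (GG2 F) := MulAut.conj b * psi σ with hα
  have hm1 : (-1 : F) ≠ 0 := by norm_num
  have hBi : ∀ m ∈ BB chevG2 F, α m ∈ BB chevG2 F := fun m hm => form_BB hb σ hm
  have h1 := h.res (BB chevG2 F) hBi
  set N : Subgroup ↥(BB chevG2 F) := (UU chevG2 F).subgroupOf (BB chevG2 F) with hN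
  have hNn : N.Normal := ⟨fun _ hu b => conj_mem_UU F hD b.2 hu⟩
  have hNi : ∀ m ∈ N, resA α (BB chevG2 F) hBi m ∈ N := fun m hm => form_UU hb σ hm
  have h2 := h1.quo N hNi
  have hmk : ∀ a c : ↥(BB chevG2 F), (QuotientGroup.mk a : ↥(BB chevG2 F) ⧸ N) = QuotientGroup.mk c ↔
      (a : GG2 F)⁻¹ * c ∈ UU chevG2 F := fun a c => QuotientGroup.eq
  have hcong : ∀ {v w : GG2 F}, v ∈ UU chevG2 F → w ∈ HH chevG2 F → w⁻¹ * (v * w) ∈ UU chevG2 F := by
    intro v w hv hw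
    have h3 := conj_mem_UU F hD (HH_le (inv_mem hw)) hv
    rwa [inv_inv, mul_assoc] at h3
  -- the elements
  set g : ↥(BB chevG2 F) := ⟨H (-1) 1, HH_le (H_mem hm1 one_ne_zero)⟩ with hg
  set c : ↥(BB chevG2 F) := ⟨H (-1) (-1), HH_le (H_mem hm1 hm1)⟩ with hc
  set g' : ↥(BB chevG2 F) := ⟨H 1 (-1), HH_le (H_mem one_ne_zero hm1)⟩ with hg'
  have e1 : (QuotientGroup.mk (resA α (BB chevG2 F) hBi g) : ↥(BB chevG2 F) ⧸ N) = QuotientGroup.mk g' := by
    obtain ⟨v, hv, e⟩ := map_H hb σ hm1 (one_ne_zero (α := F))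
    symm
    rw [hmk]
    show (H (1 : F) (-1))⁻¹ * α (H (-1) 1) ∈ _
    rw [hα, e, map_one, map_neg, map_one]
    have e2 : (-1 : F) ^ 3 = -1 := by ring
    rw [e2]
    exact hcong hv (H_mem one_ne_zero hm1)
  have e2 : (QuotientGroup.mk (resA α (BB chevG2 F) hBi c) : ↥(BB chevG2 F) ⧸ N) = QuotientGroup.mk c := by
    obtain ⟨v, hv, e⟩ := map_H hb σ hm1 hm1
    symm
    rw [hmk]
    show (H (-1 : F) (-1))⁻¹ * α (H (-1) (-1)) ∈ _
    rw [hα, e, map_neg, map_one]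
    have e2 : (-1 : F) ^ 3 = -1 := by ring
    rw [e2]
    exact hcong hv (H_mem hm1 hm1)
  have e3 : g⁻¹ * g' = c := by
    apply Subtype.ext
    show (H (-1 : F) 1)⁻¹ * H 1 (-1) = H (-1) (-1)
    rw [inv_mul_eq_iff_eq_mul]
    apply ext_conj
    intro r hr t
    have e : ∀ a b c : GG2 F, (a * b) * c * (a * b)⁻¹ = a * (b * c * b⁻¹) * a⁻¹ := fun a b c => by group
    rw [e, H_conj one_ne_zero hm1 hr, H_conj hm1 hm1 hr, H_conj hm1 one_ne_zero hr, one_zpow, one_zpow, one_mul, one_mul]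
    congr 1
    have e4 : (-1 : F) ^ ca r * (-1) ^ ca r = 1 := by
      rw [← mul_zpow]; norm_num
    rw [← mul_assoc, e4, one_mul]
  -- (F1)
  have h3 := h2.eq_of_fix (g := (QuotientGroup.mk g : ↥(BB chevG2 F) ⧸ N)) (k := 1) (by
    rw [quoA_mk, e1, inv_one, one_mul, mul_one, ← QuotientGroup.mk_inv, ← QuotientGroup.mk_mul, e3, quoA_mk, e2])
  rw [quoA_mk, e1, hmk] at h3
  -- `g'⁻¹ g ∈ U`
  have h4 : (H (1 : F) (-1))⁻¹ * H (-1) 1 = 1 :=
    HH_inf_UU (mul_mem (inv_mem (H_mem one_ne_zero hm1)) (H_mem hm1 one_ne_zero)) h3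
  have h5 : H (1 : F) (-1) = H (-1) 1 := inv_mul_eq_one.1 h4
  have h6 := H_conj one_ne_zero hm1 (r := 9) (by norm_num) (1 : F)
  rw [h5, H_conj hm1 one_ne_zero (by norm_num)] at h6
  have h7 := X_inj (by norm_num) h6
  have c1 : ca 9 = 1 := by decide
  have c2 : cb 9 = 0 := by decide
  rw [c1, c2] at h7
  simp only [zpow_one, zpow_zero, mul_one] at h7
  exact two_ne (F := F) (by linear_combination -h7)

theorem false_of_perm {α : MulAut (GG2 F)} (h : CCP α) {b : GG2 F} (hb : b ∈ BB chevG2 F)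
    {π : Equiv.Perm (Fin chevG2.rank)} (hp : Perm chevG2 F (MulAut.conj b * α) π) (hπ : π ≠ 1) : False := by
  obtain ⟨x, y, hx, hy, σ, e⟩ := exists_form hp hπ
  have e2 : α = MulAut.conj (b⁻¹ * H x y) * psi σ := by
    calc α = (MulAut.conj b)⁻¹ * (MulAut.conj b * α) := by group
      _ = _ := by rw [e, ← map_inv, map_mul, mul_assoc]
  rw [e2] at h
  exact not_ccp (mul_mem (inv_mem hb) (HH_le (H_mem hx hy))) σ h

theorem smul_BB_eq {x : MulAut (GG2 F)} (hx : ∀ b ∈ BB chevG2 F, x b ∈ BB chevG2 F) :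
    x • BB chevG2 F = BB chevG2 F := by
  have := finG (F := F)
  refine Subgroup.eq_of_le_of_card_ge ?_ ?_
  · rintro _ ⟨b, hb, rfl⟩
    exact hx b hb
  · exact (Nat.card_congr (Subgroup.equivSMul x (BB chevG2 F)).toEquiv).le

theorem exists_perm {x : MulAut (GG2 F)} (hx : ∀ b ∈ BB chevG2 F, x b ∈ BB chevG2 F) :
    ∃ b ∈ BB chevG2 F, ∃ π : Equiv.Perm (Fin chevG2.rank), Perm chevG2 F (MulAut.conj b * x) π := by
  have := finG (F := F)
  have hf3 : Fact (Nat.Prime 3) := ⟨Nat.prime_three⟩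
  obtain ⟨y, π, h1, h2, h3, h4⟩ := exists_conj_perm hD x
  refine ⟨y, ?_, π, ⟨h3, h4⟩⟩
  have hB : (MulAut.conj y * x) • BB chevG2 F = BB chevG2 F := by
    rw [← normalizer_UU hD, smul_normalizer, h1]
  rw [mul_smul, smul_BB_eq hx] at hB
  obtain ⟨S, hS⟩ := exists_sylow (F := F) hD (p := 3)
  have h5 : y ∈ normalizer ((BB chevG2 F : Subgroup (GG2 F)) : Set (GG2 F)) := by
    rw [mem_normalizer_iff_smul, hB]
  rw [← normalizer_UU hD, ← hS] at h5 ⊢
  exact (Sylow.normalizer_normalizer S).le h5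

/-- an automorphism without node permutation fixes the overgroups of `B` -/
theorem mem_of_perm_one {x : MulAut (GG2 F)} {b : GG2 F} (hb : b ∈ BB chevG2 F)
    (hp : Perm chevG2 F (MulAut.conj b * x) 1)
    (hx : ∀ b ∈ BB chevG2 F, x b ∈ BB chevG2 F) {M : Subgroup (GG2 F)} (hM : BB chevG2 F ≤ M) {m : GG2 F}
    (hm : m ∈ M) : x m ∈ M := by
  obtain ⟨c, σ, hc, hpos, hneg, hrel⟩ := exists_field hD hp
  have hB : (PP hD F).B ≤ M := by rw [PP_B]; exact hM
  obtain ⟨J, hJ, hJe⟩ := Cfsg.Agent.S0311.result (PP hD F) M hB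
  have h1 : ∀ y ∈ M, (MulAut.conj b * x) y ∈ M := by
    intro y hy
    have h2 : M ≤ M.comap (MulAut.conj b * x).toMonoidHom := by
      nth_rewrite 1 [hJe]
      show (PP hD F).B ⊔ Subgroup.closure J ≤ _
      rw [PP_B]
      refine sup_le ?_ ?_
      · intro z hz
        show b * x z * b⁻¹ ∈ M
        exact hM (mul_mem (mul_mem hb (hx z hz)) (inv_mem hb))
      · rw [Subgroup.closure_le]
        intro s hs
        obtain ⟨i, rfl⟩ := hJ hs
        show (MulAut.conj b * x) (nn hD F i) ∈ M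
        have e1 : (MulAut.conj b * x) (ne hD (chevG2.simple i) 1) = ne hD (chevG2.simple i) (c i * σ i 1) :=
          Cfsg.Agent.H70.PermFix.map_ne hD (π := 1) (hpos i) (hneg i) 1
        have e2 : nn hD F i = ne hD (chevG2.simple i) (1 : F) := rfl
        rw [e2, e1, map_one, mul_one, H70.ChevField.ne_eq]
        refine mul_mem (hM (Subgroup.mem_sup_right (he_mem_HH hD (S1042.simple_lt hD i.2) (hc i)))) ?_
        rw [hJe]
        exact (le_sup_right : Subgroup.closure J ≤ (PP hD F).parabolic J) (Subgroup.subset_closure hs)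
    exact h2 hy
  have h3 : b * x m * b⁻¹ ∈ M := h1 m hm
  have h4 : x m = b⁻¹ * (b * x m * b⁻¹) * b := by group
  rw [h4]
  exact mul_mem (mul_mem (inv_mem (hM hb)) h3) (hM hb)

/-- **`G₂(3^a)`**: no automorphism with `CCP` fixes the Borel subgroup `B` and moves an overgroup of `B`. -/
theorem false_of_fix {α : MulAut (GG2 F)} (h : CCP α) (hB : ∀ b ∈ BB chevG2 F, α b ∈ BB chevG2 F)
    {M : Subgroup (GG2 F)} (hM : BB chevG2 F ≤ M) (hm : ∃ m ∈ M, α m ∉ M) : False := by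
  obtain ⟨b, hb, π, hp⟩ := exists_perm hB
  refine false_of_perm h hb hp ?_
  rintro rfl
  obtain ⟨m, hm, hm'⟩ := hm
  exact hm' (mem_of_perm_one hb hp hB hM hm)

/-- An automorphism fixing `U` and moving an overgroup of `N(U)`. -/
theorem false_of_UU {α : MulAut (GG2 F)} (h : CCP α) (hU : ∀ u ∈ UU chevG2 F, α u ∈ UU chevG2 F)
    {M : Subgroup (GG2 F)} (hM : BB chevG2 F ≤ M) (hm : ∃ m ∈ M, α m ∉ M) : False := by
  have := finG (F := F)
  refine false_of_fix h ?_ hM hm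
  have h1 : α • UU chevG2 F = UU chevG2 F := by
    refine Subgroup.eq_of_le_of_card_ge ?_ ?_
    · rintro _ ⟨b, hb, rfl⟩
      exact hU b hb
    · exact (Nat.card_congr (Subgroup.equivSMul α (UU chevG2 F)).toEquiv).le
  intro b hb
  have h2 : α b ∈ α • BB chevG2 F := (apply_mem_smul_iff α (BB chevG2 F) b).2 hb
  rwa [← normalizer_UU hD, smul_normalizer, h1, normalizer_UU hD] at h2

/-- any Sylow `3`-subgroup of `G₂(3^a)` -/
theorem false_of_sylow {α : MulAut (GG2 F)} (h : CCP α) (S : Sylow 3 (GG2 F)) (hS : ∀ u ∈ S, α u ∈ S)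
    {M : Subgroup (GG2 F)} (hM : normalizer ((S : Subgroup (GG2 F)) : Set (GG2 F)) ≤ M) (hm : ∃ m ∈ M, α m ∉ M) :
    False := by
  have := finG (F := F)
  have hf3 : Fact (Nat.Prime 3) := ⟨Nat.prime_three⟩
  obtain ⟨S₀, hS₀⟩ := exists_sylow (F := F) hD (p := 3)
  obtain ⟨g, hg⟩ := MulAction.exists_smul_eq (GG2 F) S₀ S
  have hg' : ∀ u : GG2 F, u ∈ UU chevG2 F ↔ g * u * g⁻¹ ∈ S := by
    intro u
    rw [← hg, ← hS₀]
    have h1 := Subgroup.smul_mem_pointwise_smul_iff (a := MulAut.conj g) (S := (S₀ : Subgroup (GG2 F))) (x := u)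
    exact h1.symm
  have e : ∀ x : GG2 F, MulAut.congr (MulAut.conj g⁻¹) α x = g⁻¹ * α (g * x * g⁻¹) * g := by
    intro x
    show g⁻¹ * α ((MulAut.conj g⁻¹).symm x) * g⁻¹⁻¹ = _
    rw [MulAut.conj_symm_apply, inv_inv]
  obtain ⟨m, hm, hm'⟩ := hm
  refine false_of_UU (h.congr (MulAut.conj g⁻¹)) ?_ (M := M.comap (MulAut.conj g).toMonoidHom) ?_ ⟨g⁻¹ * m * g, ?_, ?_⟩
  · intro u hu
    rw [hg'] at hu ⊢
    rw [e]
    have e2 : g * (g⁻¹ * α (g * u * g⁻¹) * g) * g⁻¹ = α (g * u * g⁻¹) := by group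
    rw [e2]
    exact hS _ hu
  · intro b hb
    show g * b * g⁻¹ ∈ M
    apply hM
    rw [← normalizer_UU hD, mem_normalizer_iff_smul] at hb
    rw [mem_normalizer_iff_smul, ← hg]
    show MulAut.conj (g * b * g⁻¹) • (MulAut.conj g • (S₀ : Subgroup (GG2 F))) = MulAut.conj g • (S₀ : Subgroup (GG2 F))
    rw [hS₀, ← mul_smul, ← map_mul, inv_mul_cancel_right, map_mul, mul_smul, hb]
  · show g * (g⁻¹ * m * g) * g⁻¹ ∈ M
    have e2 : g * (g⁻¹ * m * g) * g⁻¹ = m := by group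
    rwa [e2]
  · rw [e]
    show ¬ g * _ * g⁻¹ ∈ M
    have e2 : g * (g⁻¹ * α (g * (g⁻¹ * m * g) * g⁻¹) * g) * g⁻¹ = α m := by
      have e3 : g * (g⁻¹ * m * g) * g⁻¹ = m := by group
      rw [e3]; group
    rwa [e2]

/-- **Task 2381**: an automorphism with `CCP` of `G₂(3^a)` fixing a Sylow `3`-subgroup `S` fixes the overgroups of
`N(S)` (the two maximal parabolic subgroups). -/
theorem g2_graph {G : Type*} [Group G] [Finite G] (e : G ≃* ↥(chevG2.group F)) {α : MulAut G} (h : CCP α)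
    (S : Sylow 3 G) (hS : ∀ u ∈ S, α u ∈ S) {M : Subgroup G} (hM : normalizer ((S : Subgroup G) : Set G) ≤ M) :
    ∀ m ∈ M, α m ∈ M := by
  have := finG (F := F)
  intro m hm
  by_contra hm'
  have hS' : ((S.mapSurjective (f := e.toMonoidHom) e.surjective : Sylow 3 (GG2 F)) : Subgroup (GG2 F)) =
      (S : Subgroup G).map e.toMonoidHom := rfl
  refine false_of_sylow (h.congr e) (S.mapSurjective (f := e.toMonoidHom) e.surjective) ?_
    (M := M.map e.toMonoidHom) ?_ ⟨e m, ⟨m, hm, rfl⟩, ?_⟩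
  · rintro _ ⟨u, hu, rfl⟩
    refine ⟨α u, hS u hu, ?_⟩
    exact (congr_ap e α u).symm
  · intro x hx
    rw [hS'] at hx
    refine ⟨e.symm x, ?_, e.apply_symm_apply x⟩
    apply hM
    rw [mem_normalizer_iff] at hx ⊢
    intro y
    have h1 := hx (e y)
    have h2 : ∀ z : G, e z ∈ (S : Subgroup G).map e.toMonoidHom ↔ z ∈ (S : Subgroup G) := by
      intro z
      constructor
      · rintro ⟨w, hw, hw'⟩
        rwa [e.injective hw'] at hw
      · intro hz
        exact ⟨z, hz, rfl⟩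
    have h3 : x * e y * x⁻¹ = e (e.symm x * y * (e.symm x)⁻¹) := by
      rw [map_mul, map_mul, map_inv, e.apply_symm_apply]
    rw [h3, h2, h2] at h1
    exact h1
  · rintro ⟨w, hw, hw'⟩
    apply hm'
    have h1 : e w = e (α m) := by
      rw [← congr_ap e α m]
      exact hw'
    rwa [e.injective h1] at hw

end Cfsg.Agent.H689.Ccp
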